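import Cfsg.Agent.Chev.GTwoInv.Classes

/-! Centralizers of the two involutions of `G₂` in characteristic two. -/

set_option autoImplicit false
set_option linter.unusedSectionVars false
set_option linter.unusedSimpArgs false

open Cfsg.Lie

namespace Cfsg.Lib.GTwoInv

open Cfsg.Lib.Chev

/-- First fundamental root index. -/
def i0 : Fin chevG2.rank := ⟨0, by decide⟩
/-- Second fundamental root index. -/
def i1 : Fin chevG2.rank := ⟨1, by decide⟩

/-- Reduced words of the twelve elements of the Weyl group. -/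
def words : List (List (Fin chevG2.rank)) :=
  [[], [i0], [i1], [i0, i1], [i1, i0], [i0, i1, i0], [i1, i0, i1], [i0, i1, i0, i1], [i1, i0, i1, i0],
    [i0, i1, i0, i1, i0], [i1, i0, i1, i0, i1], [i0, i1, i0, i1, i0, i1]]

/-- The image of a root under a word. -/
noncomputable def wv (L : List (Fin chevG2.rank)) (r : ℕ) : ℕ := G2.cert.wWord (L.map fun i => i.val) r

theorem words_step : ∀ i ∈ [i0, i1], ∀ L ∈ words, ∃ L' ∈ words,
    (List.range 12).map (wv (i :: L)) = (List.range 12).map (wv L') := by decide +kernel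

theorem wv_long : ∀ L ∈ words, ∀ r ∈ [10, 11], wv L r ∈ [0, 1, 5, 6, 10, 11] := by decide +kernel
theorem wv_short : ∀ L ∈ words, wv L 9 ∈ [2, 3, 4, 7, 8, 9] := by decide +kernel
theorem stab11 : ∀ L ∈ words, wv L 11 = 11 → L = [] ∨ L = [i0] := by decide +kernel
theorem stab9 : ∀ L ∈ words, wv L 9 = 9 → L = [] ∨ L = [i1] := by decide +kernel
theorem neg_i1 : ∀ r < 12, 6 ≤ r → wv [i1] r < 6 → r = 6 := by decide +kernel

theorem wv_lt (L : List (Fin chevG2.rank)) (r : ℕ) (hr : r < 12) : wv L r < 12 := by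
  have h := S2.wWord_eq L ⟨r, half_eq.2.symm ▸ hr⟩
  have h2 := (S2.wpL L ⟨r, half_eq.2.symm ▸ hr⟩).isLt
  have h3 := half_eq.2
  simp only [wv] at *
  omega

theorem fin_rank (i : Fin chevG2.rank) : i = i0 ∨ i = i1 := by
  obtain ⟨i, hi⟩ := i
  change i < 2 at hi
  interval_cases i
  · exact Or.inl rfl
  · exact Or.inr rfl

theorem exists_word_rep : ∀ L : List (Fin chevG2.rank), ∃ L' ∈ words, S2.wpL L = S2.wpL L'
  | [] => ⟨[], by simp [words], rfl⟩
  | i :: L => by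
    obtain ⟨L', hL', e⟩ := exists_word_rep L
    obtain ⟨L'', hL'', e''⟩ := words_step i (by rcases fin_rank i with rfl | rfl <;> simp) L' hL'
    refine ⟨L'', hL'', Equiv.ext fun r => Fin.ext ?_⟩
    have hr : r.val < 12 := half_eq.2 ▸ r.isLt
    rw [show S2.wpL (i :: L) = S2.wp i * S2.wpL L by simp [Struct.wpL], e,
      show S2.wp i * S2.wpL L' = S2.wpL (i :: L') by simp [Struct.wpL],
      ← S2.wWord_eq (i :: L') r, ← S2.wWord_eq L'' r]
    exact List.map_inj_left.1 e'' r.val (List.mem_range.2 hr)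

variable {F : Type*} [Field F] [CharP F 2]

theorem nL_conj : ∀ (L : List (Fin chevG2.rank)) (r : ℕ), r < 12 → ∀ t : F,
    S2.nL F L * x r t * (S2.nL F L)⁻¹ = x (wv L r) t
  | [], r, _, t => by simp [Struct.nL, wv, Cert.wWord]
  | i :: L, r, hr, t => by
    have e : S2.nL F (i :: L) = nn F i * S2.nL F L := by simp [Struct.nL, nn]
    rw [e, show nn F i * S2.nL F L * x r t * (nn F i * S2.nL F L)⁻¹ =
      nn F i * (S2.nL F L * x r t * (S2.nL F L)⁻¹) * (nn F i)⁻¹ by group, nL_conj L r hr,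
      nn_conj (show i.val < 2 from i.isLt) (wv_lt L r hr)]
    rfl

theorem decomp {g : GL chevG2.Idx F} (hg : g ∈ chevG2.group F) :
    ∃ L ∈ words, ∃ b ∈ chevG2.borelSubgroup F,
      ∃ v ∈ S2.UPsi F (Struct.Neg chevG2 (S2.wpL L)), g = b * S2.nL F L * v := by
  obtain ⟨b, hb, n, hn, L₀, hact, v, hv, rfl⟩ := S2.normal_form okNeg_G2 hg
  obtain ⟨L, hL, e⟩ := exists_word_rep L₀
  rw [e] at hact hv
  obtain ⟨M, hM, hiff⟩ := S2.exists_act (mul_mem hn (inv_mem (S2.nL_mem_mono (F := F) L)))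
  have h1 := S2.act_mul hM (S2.act_nL (F := F) L)
  rw [inv_mul_cancel_right] at h1
  have hd : n * (S2.nL F L)⁻¹ ∈ chevG2.diagonalSubgroup F := hiff.1 (mul_eq_right.1 (S2.act_unique h1 hact))
  exact ⟨L, hL, b * (n * (S2.nL F L)⁻¹), mul_mem hb (Subgroup.mem_sup_right hd), v, hv, by group⟩

theorem U_conj_x11 (c : F) {u : GL chevG2.Idx F} (hu : u ∈ chevG2.posUnipotent F) : u * x 11 c * u⁻¹ = x 11 c := by
  obtain ⟨A, B, C, D, E, G, rfl⟩ := exists_mk hu
  rw [mul_inv_eq_iff_eq_mul, mk_mul_x11, (x_eq_mk c).2.2.2.2.2, mk_mul]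
  refine mk_ext ?_ ?_ ?_ ?_ ?_ ?_ <;> ring

theorem U_conj_x9 (c : F) {u : GL chevG2.Idx F} (hu : u ∈ chevG2.posUnipotent F) :
    ∃ e f, u * x 9 c * u⁻¹ = mk 0 0 0 c e f := by
  obtain ⟨A, B, C, D, E, G, rfl⟩ := exists_mk hu
  refine ⟨B * c, C * c + A * (B * c), ?_⟩
  rw [mul_inv_eq_iff_eq_mul, mk_mul_x9, mk_mul]
  refine mk_ext ?_ ?_ ?_ ?_ ?_ ?_ <;> (ring_nf; try simp only [two_smul', mul_zero, zero_add, add_zero])

theorem tor_x11 (c₀ c₁ : Fˣ) (t : F) : tor c₀ c₁ * x 11 t * (tor c₀ c₁)⁻¹ = x 11 (c₁ * t) := by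
  rw [tor_conj (by norm_num), show chevG2.cartan 0 11 = 0 by decide, show chevG2.cartan 1 11 = 1 by decide]
  simp

theorem tor_x9 (c₀ c₁ : Fˣ) (t : F) : tor c₀ c₁ * x 9 t * (tor c₀ c₁)⁻¹ = x 9 (c₀ * t) := by
  rw [tor_conj (by norm_num), show chevG2.cartan 1 9 = 0 by decide, show chevG2.cartan 0 9 = 1 by decide]
  simp

theorem borel_x11 {b : GL chevG2.Idx F} (hb : b ∈ chevG2.borelSubgroup F) :
    ∃ c : F, c ≠ 0 ∧ b * x 11 1 * b⁻¹ = x 11 c := by
  obtain ⟨u, hu, d, hd, rfl⟩ := S2.borel_decomp hb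
  obtain ⟨c₀, c₁, rfl⟩ := exists_tor hd
  refine ⟨c₁, c₁.ne_zero, ?_⟩
  rw [show u * tor c₀ c₁ * x 11 1 * (u * tor c₀ c₁)⁻¹ = u * (tor c₀ c₁ * x 11 1 * (tor c₀ c₁)⁻¹) * u⁻¹ by group,
    tor_x11, U_conj_x11 _ hu, mul_one]

theorem borel_x9 {b : GL chevG2.Idx F} (hb : b ∈ chevG2.borelSubgroup F) :
    ∃ c e f : F, c ≠ 0 ∧ b * x 9 1 * b⁻¹ = mk 0 0 0 c e f := by
  obtain ⟨u, hu, d, hd, rfl⟩ := S2.borel_decomp hb
  obtain ⟨c₀, c₁, rfl⟩ := exists_tor hd
  obtain ⟨e, f, h⟩ := U_conj_x9 ((c₀ : F) * 1) hu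
  refine ⟨(c₀ : F) * 1, e, f, by simp, ?_⟩
  rw [show u * tor c₀ c₁ * x 9 1 * (u * tor c₀ c₁)⁻¹ = u * (tor c₀ c₁ * x 9 1 * (tor c₀ c₁)⁻¹) * u⁻¹ by group,
    tor_x9, h]

theorem not_neg_of_mem {L : List (Fin chevG2.rank)} {D E G : F}
    (h : S2.nL F L * mk 0 0 0 D E G * (S2.nL F L)⁻¹ ∈ chevG2.posUnipotent F) :
    (D ≠ 0 → 6 ≤ wv L 9) ∧ (E ≠ 0 → 6 ≤ wv L 10) ∧ (G ≠ 0 → 6 ≤ wv L 11) := by
  classical
  let a : ℕ → F → F := fun r t => if wv L r < 6 then t else 0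
  let c : ℕ → F → F := fun r t => if wv L r < 6 then 0 else t
  have hac : ∀ r t, a r t + c r t = t := fun r t => by simp only [a, c]; split_ifs <;> simp
  have hconj : ∀ d e g : F, S2.nL F L * mk 0 0 0 d e g * (S2.nL F L)⁻¹ =
      x (wv L 9) d * x (wv L 10) e * x (wv L 11) g := fun d e g => by
    rw [show mk 0 0 0 d e g = x 9 d * x 10 e * x 11 g by simp [mk, x_zero],
      ← nL_conj L 9 (by norm_num), ← nL_conj L 10 (by norm_num), ← nL_conj L 11 (by norm_num)]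
    group
  obtain ⟨h6, h12⟩ := half_eq
  have hU : ∀ r, r < 12 → ∀ t, x (wv L r) (c r t) ∈ chevG2.posUnipotent F := fun r hr t => by
    simp only [c]
    split_ifs with hlt
    · rw [x_zero]; exact one_mem _
    · exact S2.xG_mem_U (by omega) (by have := wv_lt L r hr; omega) _
  have hV : ∀ r, r < 12 → ∀ t, x (wv L r) (a r t) ∈ chevG2.negUnipotent F := fun r hr t => by
    simp only [a]
    split_ifs with hlt
    · exact Subgroup.subset_closure ⟨wv L r, _, S2.isNeg_iff.2 (by omega), S2.ok.val_xG _ _⟩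
    · rw [x_zero]; exact one_mem _
  have e1 : mk 0 0 0 D E G = mk 0 0 0 (a 9 D) (a 10 E) (a 11 G) * mk 0 0 0 (c 9 D) (c 10 E) (c 11 G) := by
    rw [mk_mul]
    refine mk_ext ?_ ?_ ?_ ?_ ?_ ?_
    · ring
    · ring
    · ring
    · linear_combination -(hac 9 D)
    · linear_combination -(hac 10 E)
    · linear_combination -(hac 11 G)
  have hN := hconj (a 9 D) (a 10 E) (a 11 G)
  have hP := hconj (c 9 D) (c 10 E) (c 11 G)
  have h1 : S2.nL F L * mk 0 0 0 (a 9 D) (a 10 E) (a 11 G) * (S2.nL F L)⁻¹ ∈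
      chevG2.borelSubgroup F ⊓ chevG2.negUnipotent F := by
    refine Subgroup.mem_inf.2 ⟨S2.B_le_of ?_, ?_⟩
    · have h2 : S2.nL F L * mk 0 0 0 (c 9 D) (c 10 E) (c 11 G) * (S2.nL F L)⁻¹ ∈ chevG2.posUnipotent F := by
        rw [hP]
        exact mul_mem (mul_mem (hU 9 (by norm_num) D) (hU 10 (by norm_num) E)) (hU 11 (by norm_num) G)
      rw [e1] at h
      convert mul_mem h (inv_mem h2) using 1
      group
    · rw [hN]
      exact mul_mem (mul_mem (hV 9 (by norm_num) D) (hV 10 (by norm_num) E)) (hV 11 (by norm_num) G)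
  rw [S2.B_inf_V okNeg_G2, Subgroup.mem_bot, mul_inv_eq_one] at h1
  have h3 : mk 0 0 0 (a 9 D) (a 10 E) (a 11 G) = mk 0 0 0 0 0 0 := by
    rw [mk_zero]; exact mul_left_cancel (a := S2.nL F L) (h1.trans (mul_one _).symm)
  obtain ⟨-, -, -, hD, hE, hG⟩ := mk_inj h3
  refine ⟨fun hne => ?_, fun hne => ?_, fun hne => ?_⟩ <;> by_contra hlt
  · exact hne (by simpa [a, Nat.lt_of_not_le hlt] using hD)
  · exact hne (by simpa [a, Nat.lt_of_not_le hlt] using hE)
  · exact hne (by simpa [a, Nat.lt_of_not_le hlt] using hG)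

theorem long_coord {r : ℕ} {t : F} (hr : r ∈ [0, 1, 5, 6, 10, 11]) (h : t ≠ 0 → 6 ≤ r) :
    ∃ a e g : F, x r t = mk a 0 0 0 e g := by
  rcases eq_or_ne t 0 with rfl | ht
  · exact ⟨0, 0, 0, by rw [x_zero, mk_zero]⟩
  have h6 := h ht
  simp only [List.mem_cons, List.not_mem_nil, or_false] at hr
  rcases hr with rfl | rfl | rfl | rfl | rfl | rfl
  · omega
  · omega
  · omega
  · exact ⟨t, 0, 0, (x_eq_mk t).1⟩
  · exact ⟨0, t, 0, (x_eq_mk t).2.2.2.2.1⟩
  · exact ⟨0, 0, t, (x_eq_mk t).2.2.2.2.2⟩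

theorem root_eleven {L : List (Fin chevG2.rank)} (hL : L ∈ words) :
    (∀ c : F, x (wv L 11) (1 : F) = x 11 c → wv L 11 = 11) ∧
      ∀ c e f : F, c ≠ 0 → x (wv L 11) (1 : F) ≠ mk 0 0 0 c e f := by
  have hlong := wv_long L hL 11 (by simp)
  have key : ∀ y ∈ chevG2.posUnipotent F, x (wv L 11) (1 : F) = y → 6 ≤ wv L 11 := by
    intro y hy e
    refine (not_neg_of_mem (L := L) (D := (0 : F)) (E := 0) (G := 1) ?_).2.2 one_ne_zero
    rw [← (x_eq_mk (1 : F)).2.2.2.2.2, nL_conj L 11 (by norm_num), e]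
    exact hy
  refine ⟨fun c e => ?_, fun c e f hc h => ?_⟩
  · have h6 := key _ (by rw [(x_eq_mk c).2.2.2.2.2]; exact mk_mem _ _ _ _ _ _) e
    simp only [List.mem_cons, List.not_mem_nil, or_false] at hlong
    rcases hlong with h | h | h | h | h | h <;> rw [h] at e h6 ⊢ <;> try omega
    · rw [(x_eq_mk (1 : F)).1, (x_eq_mk c).2.2.2.2.2] at e
      exact absurd (mk_inj e).1 one_ne_zero
    · rw [(x_eq_mk (1 : F)).2.2.2.2.1, (x_eq_mk c).2.2.2.2.2] at e
      exact absurd (mk_inj e).2.2.2.2.1 one_ne_zero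
  · obtain ⟨a, e', g, he⟩ := long_coord (t := (1 : F)) hlong fun _ => key _ (mk_mem _ _ _ _ _ _) h
    rw [he] at h
    exact hc (mk_inj h).2.2.2.1.symm

theorem root_nine {L : List (Fin chevG2.rank)} (hL : L ∈ words) {e f c e' f' : F}
    (h : S2.nL F L * mk 0 0 0 1 e f * (S2.nL F L)⁻¹ = mk 0 0 0 c e' f') : wv L 9 = 9 := by
  obtain ⟨p9, p10, p11⟩ := not_neg_of_mem (h ▸ mk_mem _ _ _ _ _ _)
  obtain ⟨a₁, e₁, g₁, h10⟩ := long_coord (wv_long L hL 10 (by simp)) p10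
  obtain ⟨a₂, e₂, g₂, h11⟩ := long_coord (wv_long L hL 11 (by simp)) p11
  rw [show mk 0 0 0 1 e f = x 9 1 * x 10 e * x 11 f by simp [mk, x_zero],
    show S2.nL F L * (x 9 1 * x 10 e * x 11 f) * (S2.nL F L)⁻¹ = S2.nL F L * x 9 1 * (S2.nL F L)⁻¹ *
      (S2.nL F L * x 10 e * (S2.nL F L)⁻¹) * (S2.nL F L * x 11 f * (S2.nL F L)⁻¹) by group,
    nL_conj L 9 (by norm_num), nL_conj L 10 (by norm_num), nL_conj L 11 (by norm_num), h10, h11] at h
  have h9 := p9 one_ne_zero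
  have hs := wv_short L hL
  simp only [List.mem_cons, List.not_mem_nil, or_false] at hs
  rcases hs with e0 | e0 | e0 | e0 | e0 | e0 <;> rw [e0] at h h9 <;> try omega
  · rw [(x_eq_mk (1 : F)).2.1, mk_mul, mk_mul] at h
    have h2 := (mk_inj h).2.1
    simp at h2
  · rw [(x_eq_mk (1 : F)).2.2.1, mk_mul, mk_mul] at h
    have h3 := (mk_inj h).2.2.1
    simp at h3

theorem not_conj {g : GL chevG2.Idx F} (hg : g ∈ chevG2.group F) : g * x 11 1 * g⁻¹ ≠ x 9 (1 : F) := by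
  intro h
  obtain ⟨L, hL, b, hb, v, hv, rfl⟩ := decomp hg
  obtain ⟨c, e, f, hc, hb9⟩ := borel_x9 (inv_mem hb)
  refine (root_eleven hL).2 c e f hc ?_
  rw [← nL_conj L 11 (by norm_num), ← hb9, ← h, inv_inv,
    show b⁻¹ * (b * S2.nL F L * v * x 11 1 * (b * S2.nL F L * v)⁻¹) * b =
      S2.nL F L * (v * x 11 1 * v⁻¹) * (S2.nL F L)⁻¹ by group,
    U_conj_x11 _ (S2.UPsi_le _ hv)]

theorem x_mem_root (r : ℕ) (t : F) : x r t ∈ chevG2.rootSubgroup F r := S2.xG_mem_rootSubgroup r t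

theorem nG_mem_of {R : Subgroup (GL chevG2.Idx F)} {r s : ℕ} (hs : chevG2.neg r = s)
    (h1 : ∀ t : F, x r t ∈ R) (h2 : ∀ t : F, x s t ∈ R) (t : F) : S2.ok.nG r t ∈ R := by
  subst hs
  exact mul_mem (mul_mem (h1 _) (h2 _)) (h1 _)

theorem tor_single_mem {R : Subgroup (GL chevG2.Idx F)} (i : Fin chevG2.rank)
    (hn : ∀ t : F, S2.ok.nG (chevG2.simple i) t ∈ R) (c : Fˣ) :
    Ok.tG chevG2 F (Pi.mulSingle i c) ∈ R := by
  rw [← S2.ok.hG_simple_eq_tG]
  exact mul_mem (hn _) (hn _)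

theorem cent_z [Finite F] :
    chevG2.group F ⊓ Subgroup.centralizer {x 11 (1 : F)} =
      chevG2.posUnipotent F ⊔ chevG2.rootSubgroup F 4 := by
  refine le_antisymm ?_ (sup_le ?_ ?_)
  · intro g hg
    obtain ⟨hgG, hgc⟩ := Subgroup.mem_inf.1 hg
    rw [Subgroup.mem_centralizer_singleton_iff] at hgc
    obtain ⟨L, hL, b, hb, v, hv, rfl⟩ := decomp hgG
    have hv' := S2.UPsi_le _ hv
    have h1 : S2.nL F L * x 11 1 * (S2.nL F L)⁻¹ = b⁻¹ * x 11 1 * b⁻¹⁻¹ := by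
      have h2 : b * S2.nL F L * v * x 11 1 * (b * S2.nL F L * v)⁻¹ = x 11 1 := by
        rw [mul_inv_eq_iff_eq_mul]; exact hgc
      conv_rhs => rw [← h2]
      rw [show b⁻¹ * (b * S2.nL F L * v * x 11 1 * (b * S2.nL F L * v)⁻¹) * b⁻¹⁻¹ =
        S2.nL F L * (v * x 11 1 * v⁻¹) * (S2.nL F L)⁻¹ by group, U_conj_x11 _ hv']
    rw [nL_conj L 11 (by norm_num)] at h1
    obtain ⟨c, -, hc⟩ := borel_x11 (inv_mem hb)
    rw [hc] at h1
    have h11 := (root_eleven hL).1 c h1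
    rw [h11] at h1
    obtain rfl : (1 : F) = c := by
      rw [(x_eq_mk (1 : F)).2.2.2.2.2, (x_eq_mk c).2.2.2.2.2] at h1
      exact (mk_inj h1).2.2.2.2.2
    have hX7 : ∀ t : F, x 7 t ∈ chevG2.posUnipotent F ⊔ chevG2.rootSubgroup F 4 := fun t =>
      Subgroup.mem_sup_left (S2.xG_mem_U (by rw [half_eq.1]; norm_num) (by rw [half_eq.2]; norm_num) t)
    have hn : ∀ t : F, S2.ok.nG (chevG2.simple i0) t ∈ chevG2.posUnipotent F ⊔ chevG2.rootSubgroup F 4 :=
      nG_mem_of (r := chevG2.simple i0) (s := 4) (by decide +kernel)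
        (by rw [show chevG2.simple i0 = 7 by decide +kernel]; exact hX7)
        (fun t => Subgroup.mem_sup_right (x_mem_root 4 t))
    refine mul_mem (mul_mem ?_ ?_) (Subgroup.mem_sup_left hv')
    · obtain ⟨u, hu, d, hd, rfl⟩ := S2.borel_decomp hb
      refine mul_mem (Subgroup.mem_sup_left hu) ?_
      obtain ⟨c₀, c₁, rfl⟩ := exists_tor hd
      have h2 : tor c₀ c₁ * x 11 1 * (tor c₀ c₁)⁻¹ = x 11 1 := by
        rw [inv_inv] at hc
        rw [mul_inv_eq_iff_eq_mul]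
        have h3 : x 11 1 * (u * tor c₀ c₁) = u * tor c₀ c₁ * x 11 1 := by
          conv_rhs => rw [← hc]
          group
        have h4 := U_conj_x11 (1 : F) hu
        rw [mul_inv_eq_iff_eq_mul] at h4
        refine mul_left_cancel (a := u) ?_
        rw [← mul_assoc, ← h3, ← mul_assoc u, ← mul_assoc (x 11 1), ← h4, mul_assoc]
      rw [tor_x11, mul_one, (x_eq_mk ((c₁ : F))).2.2.2.2.2, (x_eq_mk (1 : F)).2.2.2.2.2] at h2
      obtain rfl : c₁ = 1 := Units.ext (mk_inj h2).2.2.2.2.2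
      have e : (![c₀, 1] : Fin 2 → Fˣ) = Pi.mulSingle (i0 : Fin 2) c₀ := by
        funext i; fin_cases i <;> rfl
      show Ok.tG chevG2 F (![c₀, 1] : Fin 2 → Fˣ) ∈ _
      rw [e]
      exact tor_single_mem i0 hn c₀
    · rcases stab11 L hL h11 with rfl | rfl
      · simp [Struct.nL]
      · simpa [Struct.nL] using hn 1
  · intro u hu
    refine Subgroup.mem_inf.2 ⟨S2.borel_le_group (S2.B_le_of hu), Subgroup.mem_centralizer_singleton_iff.2 ?_⟩
    exact mul_inv_eq_iff_eq_mul.1 (U_conj_x11 1 hu)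
  · refine S2.rootSubgroup_le 4 fun t => Subgroup.mem_inf.2 ⟨x_mem 4 t, Subgroup.mem_centralizer_singleton_iff.2 ?_⟩
    exact (commutes (r := 4) (s := 11) (by norm_num) (by norm_num) (by norm_num) (by decide +kernel)
      (by decide +kernel) t (1 : F)).symm

theorem cent_t [Finite F] :
    chevG2.group F ⊓ Subgroup.centralizer {x 9 (1 : F)} =
      chevG2.rootSubgroup F 9 ⊔ chevG2.rootSubgroup F 10 ⊔ chevG2.rootSubgroup F 11 ⊔ chevG2.rootSubgroup F 6 ⊔
        chevG2.rootSubgroup F 5 := by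
  set R := chevG2.rootSubgroup F 9 ⊔ chevG2.rootSubgroup F 10 ⊔ chevG2.rootSubgroup F 11 ⊔
    chevG2.rootSubgroup F 6 ⊔ chevG2.rootSubgroup F 5
  set W := chevG2.group F ⊓ Subgroup.centralizer {x 9 (1 : F)} with hW
  have hx9 : ∀ t : F, x 9 t ∈ R := fun t => Subgroup.mem_sup_left (Subgroup.mem_sup_left
    (Subgroup.mem_sup_left (Subgroup.mem_sup_left (x_mem_root 9 t))))
  have hx10 : ∀ t : F, x 10 t ∈ R := fun t => Subgroup.mem_sup_left (Subgroup.mem_sup_left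
    (Subgroup.mem_sup_left (Subgroup.mem_sup_right (x_mem_root 10 t))))
  have hx11 : ∀ t : F, x 11 t ∈ R := fun t => Subgroup.mem_sup_left (Subgroup.mem_sup_left
    (Subgroup.mem_sup_right (x_mem_root 11 t)))
  have hx6 : ∀ t : F, x 6 t ∈ R := fun t => Subgroup.mem_sup_left (Subgroup.mem_sup_right (x_mem_root 6 t))
  have hx5 : ∀ t : F, x 5 t ∈ R := fun t => Subgroup.mem_sup_right (x_mem_root 5 t)
  have hle : R ≤ W := by
    refine sup_le (sup_le (sup_le (sup_le ?_ ?_) ?_) ?_) ?_ <;>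
      refine S2.rootSubgroup_le _ fun t => Subgroup.mem_inf.2 ⟨x_mem _ t,
        Subgroup.mem_centralizer_singleton_iff.2 ?_⟩
    · show x 9 t * x 9 1 = x 9 1 * x 9 t
      rw [x_add, x_add, add_comm]
    · exact commutes (r := 9) (s := 10) (by norm_num) (by norm_num) (by norm_num) (by decide +kernel)
        (by decide +kernel) (1 : F) t
    · exact commutes (r := 9) (s := 11) (by norm_num) (by norm_num) (by norm_num) (by decide +kernel)
        (by decide +kernel) (1 : F) t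
    · exact (commutes (r := 6) (s := 9) (by norm_num) (by norm_num) (by norm_num) (by decide +kernel)
        (by decide +kernel) t (1 : F)).symm
    · exact (commutes (r := 5) (s := 9) (by norm_num) (by norm_num) (by norm_num) (by decide +kernel)
        (by decide +kernel) t (1 : F)).symm
  have hn : ∀ t : F, S2.ok.nG (chevG2.simple i1) t ∈ R :=
    nG_mem_of (r := chevG2.simple i1) (s := 5) (by decide +kernel)
      (by rw [show chevG2.simple i1 = 6 by decide +kernel]; exact hx6) hx5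
  refine le_antisymm ?_ hle
  intro g hg
  obtain ⟨hgG, hgc⟩ := Subgroup.mem_inf.1 hg
  rw [Subgroup.mem_centralizer_singleton_iff] at hgc
  obtain ⟨L, hL, b, hb, v, hv, rfl⟩ := decomp hgG
  obtain ⟨e, f, hvx⟩ := U_conj_x9 (1 : F) (S2.UPsi_le _ hv)
  obtain ⟨c, e', f', -, hbx⟩ := borel_x9 (inv_mem hb)
  have h9 : wv L 9 = 9 := by
    refine root_nine hL (e := e) (f := f) (c := c) (e' := e') (f' := f') ?_
    have h2 : b * S2.nL F L * v * x 9 1 * (b * S2.nL F L * v)⁻¹ = x 9 1 := by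
      rw [mul_inv_eq_iff_eq_mul]; exact hgc
    rw [← hvx, ← hbx]
    conv_rhs => rw [← h2]
    group
  have hvR : v ∈ R := by
    refine (Subgroup.closure_le R).2 ?_ hv
    rintro _ ⟨r, t, hr, hneg, rfl⟩
    have hr12 : r.val < 12 := half_eq.2 ▸ r.isLt
    rw [half_eq.1] at hr
    have hlt : wv L r.val < 6 := by
      rw [wv, S2.wWord_eq L r]
      exact half_eq.1 ▸ hneg
    rcases stab9 L hL h9 with rfl | rfl
    · exact absurd hlt (by simp only [wv, List.map_nil, Cert.wWord]; omega)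
    · rw [neg_i1 r.val hr12 hr hlt]; exact hx6 t
  have hnR : S2.nL F L ∈ R := by
    rcases stab9 L hL h9 with rfl | rfl
    · simp [Struct.nL]
    · simpa [Struct.nL] using hn 1
  have hbW : b ∈ W := by
    have h := mul_mem (mul_mem hg (inv_mem (hle hvR))) (inv_mem (hle hnR))
    simpa [mul_assoc] using h
  refine mul_mem (mul_mem ?_ hnR) hvR
  have hbc := Subgroup.mem_centralizer_singleton_iff.1 (Subgroup.mem_inf.1 hbW).2
  obtain ⟨u, hu, d, hd, rfl⟩ := S2.borel_decomp hb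
  obtain ⟨c₀, c₁, rfl⟩ := exists_tor hd
  obtain ⟨A, B, C, D, E, G, rfl⟩ := exists_mk hu
  have h2 : mk A B C D E G * x 9 (c₀ : F) = x 9 1 * mk A B C D E G := by
    have e := tor_x9 c₀ c₁ (1 : F)
    rw [mul_one, mul_inv_eq_iff_eq_mul] at e
    refine mul_right_cancel (b := tor c₀ c₁) ?_
    rw [mul_assoc, ← e, ← mul_assoc, hbc, mul_assoc]
  rw [mk_mul_x9, (x_eq_mk (1 : F)).2.2.2.1, mk_mul] at h2
  obtain ⟨-, -, -, hD, hE, hG⟩ := mk_inj h2
  obtain rfl : c₀ = 1 := Units.ext (by rw [Units.val_one]; linear_combination hD)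
  have hB : B = 0 := by linear_combination -hE
  subst hB
  have hC : C = 0 := by linear_combination -hG
  subst hC
  refine mul_mem (mul_mem (mul_mem (mul_mem (mul_mem (mul_mem (hx6 A) ?_) ?_) (hx9 D)) (hx10 E)) (hx11 G)) ?_
  · rw [x_zero]; exact one_mem _
  · rw [x_zero]; exact one_mem _
  · have e : (![1, c₁] : Fin 2 → Fˣ) = Pi.mulSingle (i1 : Fin 2) c₁ := by
      funext i; fin_cases i <;> rfl
    show Ok.tG chevG2 F (![1, c₁] : Fin 2 → Fˣ) ∈ _
    rw [e]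
    exact tor_single_mem i1 hn c₁

end Cfsg.Lib.GTwoInv
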