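import Cfsg.Agent.Chev.GTwoInv.Unip
import Cfsg.Agent.Steinberg.Chev
import Cfsg.Agent.Steinberg.Vanish

/-! Involutions of `G₂` in characteristic two: two classes. -/

set_option autoImplicit false
set_option linter.unusedSectionVars false
set_option linter.unusedSimpArgs false
set_option linter.unusedTactic false
set_option linter.unreachableTactic false

open Cfsg.Lie

namespace Cfsg.Lib.GTwoInv

open Cfsg.Lib.Chev

variable {F : Type*} [Field F] [CharP F 2]

/-- The torus element. -/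
noncomputable def tor (c₀ c₁ : Fˣ) : GL chevG2.Idx F := Ok.tG chevG2 F (![c₀, c₁] : Fin 2 → Fˣ)

theorem tor_conj {r : ℕ} (hr : r < 12) (c₀ c₁ : Fˣ) (t : F) :
    tor c₀ c₁ * x r t * (tor c₀ c₁)⁻¹ =
      x r (((c₀ ^ chevG2.cartan 0 r * c₁ ^ chevG2.cartan 1 r : Fˣ) : F) * t) := by
  have h := S2.tG_conj_xG (F := F) (s := r) (half_eq.2.symm ▸ hr) (![c₀, c₁] : Fin 2 → Fˣ) t
  have e : (∏ i : Fin chevG2.rank, (![c₀, c₁] : Fin 2 → Fˣ) i ^ chevG2.cartan i r : Fˣ) =
      c₀ ^ chevG2.cartan 0 r * c₁ ^ chevG2.cartan 1 r := Fin.prod_univ_two (f := fun i : Fin 2 =>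
    (![c₀, c₁] : Fin 2 → Fˣ) i ^ chevG2.cartan i r)
  rw [e] at h
  exact h

theorem tor_mem (c₀ c₁ : Fˣ) : tor c₀ c₁ ∈ chevG2.group F :=
  S2.diag_le_group (by rw [S2.ok.diagonalSubgroup_eq]; exact ⟨_, rfl⟩)

theorem exists_tor {d : GL chevG2.Idx F} (hd : d ∈ chevG2.diagonalSubgroup F) :
    ∃ c₀ c₁ : Fˣ, d = tor c₀ c₁ := by
  rw [S2.ok.diagonalSubgroup_eq] at hd
  obtain ⟨c, rfl⟩ := hd
  refine ⟨c ⟨0, by decide⟩, c ⟨1, by decide⟩, ?_⟩
  unfold tor
  congr 1
  funext i
  obtain ⟨i, hi⟩ := i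
  change i < 2 at hi
  interval_cases i <;> rfl

/-- The elements `n_a`, `n_b`. -/
noncomputable def nn (F : Type*) [Field F] (i : ℕ) : GL chevG2.Idx F := S2.ok.nG (chevG2.simple i) (1 : F)

theorem nn_mem (i : ℕ) : nn F i ∈ chevG2.group F := S2.ok.nG_mem_group _ _

theorem nn_conj {i r : ℕ} (hi : i < 2) (hr : r < 12) (t : F) :
    nn F i * x r t * (nn F i)⁻¹ = x (G2.cert.w i r) t := by
  have h := S2.ok.conj_nG_xG (F := F) (i := i) (s := r) hi (half_eq.2.symm ▸ hr) t
  rcases Cfsg.Lib.Chev.Ok.eta_cases G2.cert i r with e | e <;> rw [e] at h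
  · simpa [nn, x] using h
  · simpa [nn, x, neg'] using h

theorem x_mem (r : ℕ) (t : F) : x r t ∈ chevG2.group F := S2.ok.xG_mem_group r t

theorem x_inv (r : ℕ) (t : F) : (x r t)⁻¹ = x r t := by
  rw [inv_eq_iff_mul_eq_one, x_add, show t + t = 0 by linear_combination t * two' (F := F), x_zero]

/-- Conjugate to one of the two standard involutions. -/
def Cls (g : GL chevG2.Idx F) : Prop :=
  ∃ h ∈ chevG2.group F, h * g * h⁻¹ = x 11 1 ∨ h * g * h⁻¹ = x 9 1

theorem Cls.conj {g h : GL chevG2.Idx F} (hh : h ∈ chevG2.group F) (c : Cls (h * g * h⁻¹)) : Cls g := by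
  obtain ⟨k, hk, e⟩ := c
  refine ⟨k * h, mul_mem hk hh, ?_⟩
  simpa [mul_assoc] using e

theorem cls_x11 {c : F} (hc : c ≠ 0) : Cls (x 11 c) := by
  refine Cls.conj (tor_mem 1 (Units.mk0 c hc)⁻¹) ⟨1, one_mem _, Or.inl ?_⟩
  rw [tor_conj (by norm_num), show chevG2.cartan 1 11 = 1 by decide, one_mul, inv_one, mul_one]
  simp [hc]

theorem cls_x9 {c : F} (hc : c ≠ 0) : Cls (x 9 c) := by
  refine Cls.conj (tor_mem (Units.mk0 c hc)⁻¹ 1) ⟨1, one_mem _, Or.inr ?_⟩
  rw [tor_conj (by norm_num), show chevG2.cartan 0 9 = 1 by decide, one_mul, inv_one, mul_one]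
  simp [hc]

theorem cls_x10 {c : F} (hc : c ≠ 0) : Cls (x 10 c) := by
  refine Cls.conj (nn_mem 1) ?_
  rw [nn_conj (by norm_num) (by norm_num), show G2.cert.w 1 10 = 11 by decide +kernel]
  exact cls_x11 hc

theorem cls_x8 {c : F} (hc : c ≠ 0) : Cls (x 8 c) := by
  refine Cls.conj (nn_mem 0) ?_
  rw [nn_conj (by norm_num) (by norm_num), show G2.cert.w 0 8 = 9 by decide +kernel]
  exact cls_x9 hc

theorem cls_x7 {c : F} (hc : c ≠ 0) : Cls (x 7 c) := by
  refine Cls.conj (nn_mem 1) ?_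
  rw [nn_conj (by norm_num) (by norm_num), show G2.cert.w 1 7 = 8 by decide +kernel]
  exact cls_x8 hc

theorem conj_x_cls {g : GL chevG2.Idx F} (r : ℕ) (s : F) (c : Cls (x r s * g * x r s)) : Cls g :=
  Cls.conj (x_mem r s) (by rwa [x_inv])

theorem exists_sq [Finite F] (a : F) : ∃ s : F, s ^ 2 = a := by
  obtain ⟨s, hs⟩ := FiniteField.isSquare_of_char_two (F := F) (ringChar.eq F 2) a
  exact ⟨s, by rw [hs]; ring⟩

theorem mk_ext {A B C D E G a b c d e f : F} (h₁ : A = a) (h₂ : B = b) (h₃ : C = c) (h₄ : D = d) (h₅ : E = e)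
    (h₆ : G = f) : mk A B C D E G = mk a b c d e f := by subst h₁ h₂ h₃ h₄ h₅ h₆; rfl

theorem two_smul' (a : F) : a * 2 = 0 := by rw [two', mul_zero]

theorem x6_conj (A B C D E G a : F) :
    x 6 a * mk A B C D E G * x 6 a = mk A B (C + a * B) (D + a * B ^ 2) (E + a * B ^ 3)
      (G + a * E + C * a * B ^ 2) := by
  rw [(x_eq_mk a).1, mk_mul, mk_mul]
  refine mk_ext ?_ ?_ ?_ ?_ ?_ ?_ <;> (ring_nf; try simp only [two_smul', mul_zero, zero_add, add_zero])

theorem x7_conj (A C D E G b : F) :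
    x 7 b * mk A 0 C D E G * x 7 b = mk A 0 (C + A * b) (D + A * b ^ 2) (E + b ^ 2 * C + b * D + A * b ^ 3)
      (G + C * A * b ^ 2 + b * (C + A * b) ^ 2) := by
  rw [(x_eq_mk b).2.1, mk_mul, mk_mul]
  refine mk_ext ?_ ?_ ?_ ?_ ?_ ?_ <;> (ring_nf; try simp only [two_smul', mul_zero, zero_add, add_zero])
  linear_combination (A * b ^ 3) * two' (F := F)

theorem x8_conj (B C D E G c : F) :
    x 8 c * mk 0 B C D E G * x 8 c = mk 0 B C D (E + B ^ 2 * c) (G + B * c ^ 2 + c * D) := by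
  rw [(x_eq_mk c).2.2.1, mk_mul, mk_mul]
  refine mk_ext ?_ ?_ ?_ ?_ ?_ ?_ <;> (ring_nf; try simp only [two_smul', mul_zero, zero_add, add_zero])

theorem x9_conj (A B C D E G d : F) :
    x 9 d * mk A B C D E G * x 9 d = mk A B C D (E + B * d) (G + C * d) := by
  rw [(x_eq_mk d).2.2.2.1, mk_mul, mk_mul]
  refine mk_ext ?_ ?_ ?_ ?_ ?_ ?_ <;> (ring_nf; try simp only [two_smul', mul_zero, zero_add, add_zero])

theorem x10_conj (A B C D E G e : F) :
    x 10 e * mk A B C D E G * x 10 e = mk A B C D E (G + A * e) := by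
  rw [(x_eq_mk e).2.2.2.2.1, mk_mul, mk_mul]
  refine mk_ext ?_ ?_ ?_ ?_ ?_ ?_ <;> (ring_nf; try simp only [two_smul', mul_zero, zero_add, add_zero])

theorem cls_case_b [Finite F] {B C D E G : F} (hB : B ≠ 0) (hD : D = B * C) : Cls (mk 0 B C D E G) := by
  subst hD
  refine conj_x_cls 6 (C / B) ?_
  rw [x6_conj, show C + C / B * B = 0 by rw [div_mul_cancel₀ _ hB]; linear_combination C * two' (F := F),
    show B * C + C / B * B ^ 2 = 0 by field_simp; linear_combination (B * C) * two' (F := F)]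
  generalize E + C / B * B ^ 3 = e
  generalize G + C / B * E + C * (C / B) * B ^ 2 = f
  obtain ⟨c, hc⟩ := exists_sq (f / B)
  refine conj_x_cls 8 c ?_
  rw [x8_conj, show f + B * c ^ 2 + c * 0 = 0 by rw [hc, mul_div_cancel₀ _ hB]; linear_combination f * two' (F := F)]
  generalize e + B ^ 2 * c = e'
  refine conj_x_cls 9 (e' / B) ?_
  rw [x9_conj, show e' + B * (e' / B) = 0 by rw [mul_div_cancel₀ _ hB]; linear_combination e' * two' (F := F),
    zero_mul, add_zero, ← (x_eq_mk B).2.1]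
  exact cls_x7 hB

theorem cls_x6_x9 [Finite F] {A D : F} (hA : A ≠ 0) : Cls (mk A 0 0 D 0 0) := by
  have h1 : mk A 0 0 D 0 0 = x 6 A * x 9 D := by simp [mk, x_zero]
  refine Cls.conj (mul_mem (nn_mem 1) (nn_mem 0)) ?_
  rw [h1, show nn F 1 * nn F 0 * (x 6 A * x 9 D) * (nn F 1 * nn F 0)⁻¹ =
      (nn F 1 * (nn F 0 * x 6 A * (nn F 0)⁻¹) * (nn F 1)⁻¹) *
        (nn F 1 * (nn F 0 * x 9 D * (nn F 0)⁻¹) * (nn F 1)⁻¹) by group,
    nn_conj (i := 0) (r := 6) (by norm_num) (by norm_num), show G2.cert.w 0 6 = 10 by decide +kernel,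
    nn_conj (i := 1) (r := 10) (by norm_num) (by norm_num), show G2.cert.w 1 10 = 11 by decide +kernel,
    nn_conj (i := 0) (r := 9) (by norm_num) (by norm_num), show G2.cert.w 0 9 = 8 by decide +kernel,
    nn_conj (i := 1) (r := 8) (by norm_num) (by norm_num), show G2.cert.w 1 8 = 7 by decide +kernel]
  rcases eq_or_ne D 0 with rfl | hD
  · rw [x_zero, mul_one]; exact cls_x11 hA
  · rw [(x_eq_mk A).2.2.2.2.2, (x_eq_mk D).2.1, mk_mul]
    simp only [zero_mul, mul_zero, add_zero, zero_add, ne_eq, OfNat.ofNat_ne_zero, not_false_eq_true, zero_pow]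
    exact cls_case_b hD (mul_zero D).symm

theorem cls_of_involution [Finite F] {g : GL chevG2.Idx F} (hg : g ∈ chevG2.posUnipotent F) (h1 : g ≠ 1)
    (h2 : g * g = 1) : Cls g := by
  obtain ⟨A, B, C, D, E, G, rfl⟩ := exists_mk hg
  rw [mk_mul, ← mk_zero] at h2
  obtain ⟨-, -, hC, -, hE, hG⟩ := mk_inj h2
  have hAB : A * B = 0 := by linear_combination hC - C * two' (F := F)
  rcases eq_or_ne B 0 with rfl | hB
  · have hG' : A * E + C * D = 0 := by linear_combination hG - G * two' (F := F)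
    rcases eq_or_ne A 0 with rfl | hA
    · rw [zero_mul, zero_add] at hG'
      rcases mul_eq_zero.1 hG' with rfl | rfl
      · rcases eq_or_ne D 0 with rfl | hD
        · rcases eq_or_ne E 0 with rfl | hE0
          · rw [← (x_eq_mk G).2.2.2.2.2] at h1 ⊢
            exact cls_x11 fun e => h1 (by rw [e, x_zero])
          · refine conj_x_cls 6 (G / E) ?_
            rw [x6_conj, show G + G / E * E + (0 : F) * (G / E) * 0 ^ 2 = 0 by
              rw [div_mul_cancel₀ _ hE0]; linear_combination G * two' (F := F)]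
            simp only [mul_zero, add_zero, ne_eq, OfNat.ofNat_ne_zero, not_false_eq_true, zero_pow,
              ← (x_eq_mk E).2.2.2.2.1]
            exact cls_x10 hE0
        · refine conj_x_cls 7 (E / D) ?_
          rw [x7_conj, show E + (E / D) ^ 2 * 0 + E / D * D + 0 * (E / D) ^ 3 = 0 by
            rw [div_mul_cancel₀ _ hD]; linear_combination E * two' (F := F)]
          simp only [mul_zero, zero_mul, add_zero, ne_eq, OfNat.ofNat_ne_zero, not_false_eq_true, zero_pow]
          refine conj_x_cls 8 (G / D) ?_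
          rw [x8_conj, show G + 0 * (G / D) ^ 2 + G / D * D = 0 by
            rw [div_mul_cancel₀ _ hD]; linear_combination G * two' (F := F)]
          simp only [mul_zero, zero_mul, add_zero, ne_eq, OfNat.ofNat_ne_zero, not_false_eq_true, zero_pow,
            ← (x_eq_mk D).2.2.2.1]
          exact cls_x9 hD
      · rcases eq_or_ne C 0 with rfl | hC0
        · rcases eq_or_ne E 0 with rfl | hE0
          · rw [← (x_eq_mk G).2.2.2.2.2] at h1 ⊢
            exact cls_x11 fun e => h1 (by rw [e, x_zero])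
          · refine conj_x_cls 6 (G / E) ?_
            rw [x6_conj, show G + G / E * E + (0 : F) * (G / E) * 0 ^ 2 = 0 by
              rw [div_mul_cancel₀ _ hE0]; linear_combination G * two' (F := F)]
            simp only [mul_zero, add_zero, ne_eq, OfNat.ofNat_ne_zero, not_false_eq_true, zero_pow,
              ← (x_eq_mk E).2.2.2.2.1]
            exact cls_x10 hE0
        · obtain ⟨s, hs⟩ := exists_sq (E / C)
          refine conj_x_cls 7 s ?_
          rw [x7_conj, show E + s ^ 2 * C + s * 0 + 0 * s ^ 3 = 0 by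
            rw [hs, div_mul_cancel₀ _ hC0]; linear_combination E * two' (F := F)]
          simp only [mul_zero, zero_mul, add_zero]
          generalize G + s * C ^ 2 = f
          refine conj_x_cls 9 (f / C) ?_
          rw [x9_conj, show f + C * (f / C) = 0 by
            rw [mul_div_cancel₀ _ hC0]; linear_combination f * two' (F := F)]
          simp only [zero_mul, add_zero, ← (x_eq_mk C).2.2.1]
          exact cls_x8 hC0
    · refine conj_x_cls 7 (C / A) ?_
      rw [x7_conj, show C + A * (C / A) = 0 by rw [mul_div_cancel₀ _ hA]; linear_combination C * two' (F := F),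
        show E + (C / A) ^ 2 * C + C / A * D + A * (C / A) ^ 3 = 0 by
          field_simp
          linear_combination A * hG' + (C ^ 3) * two' (F := F)]
      generalize D + A * (C / A) ^ 2 = d
      generalize G + C * A * (C / A) ^ 2 + C / A * (0 : F) ^ 2 = f
      refine conj_x_cls 10 (f / A) ?_
      rw [x10_conj, show f + A * (f / A) = 0 by rw [mul_div_cancel₀ _ hA]; linear_combination f * two' (F := F)]
      exact cls_x6_x9 hA
  · obtain rfl : A = 0 := (mul_eq_zero.1 hAB).resolve_right hB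
    refine cls_case_b hB ?_
    refine mul_left_cancel₀ hB ?_
    linear_combination hE - (B ^ 2 * C + E) * two' (F := F)

theorem sylow_conj [Finite F] {g : GL chevG2.Idx F} (hg : g ∈ chevG2.group F) (h2 : orderOf g = 2) :
    ∃ h ∈ chevG2.group F, h * g * h⁻¹ ∈ chevG2.posUnipotent F := by
  haveI := Fintype.ofFinite F
  haveI : Fact (Nat.Prime 2) := ⟨Nat.prime_two⟩
  obtain ⟨P, U, hd⟩ := Cfsg.Lib.Steinberg.exists_chevData (F := F) 2 chevG2 (by simp)
  let T : Sylow 2 ↥(chevG2.group F) :=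
    Sylow.ofCard U (Cfsg.Lib.Steinberg.factorization_eq hd.split).symm
  have hp : IsPGroup 2 ↥(Subgroup.zpowers (⟨g, hg⟩ : ↥(chevG2.group F))) :=
    IsPGroup.of_card (n := 1) (by rw [Nat.card_zpowers, ← Subgroup.orderOf_coe, h2, pow_one])
  obtain ⟨Q, hQ⟩ := hp.exists_le_sylow
  obtain ⟨k, hk⟩ := MulAction.exists_smul_eq ↥(chevG2.group F) Q T
  refine ⟨k, k.2, ?_⟩
  have hm : k * ⟨g, hg⟩ * k⁻¹ ∈ (T : Subgroup ↥(chevG2.group F)) := by
    rw [← hk, Sylow.coe_subgroup_smul]
    exact Subgroup.smul_mem_pointwise_smul _ _ _ (hQ (Subgroup.mem_zpowers _))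
  rw [show (T : Subgroup ↥(chevG2.group F)) = U from rfl, hd.U_eq, Subgroup.mem_subgroupOf] at hm
  exact hm

theorem order_two [Finite F] (r : ℕ) (hr : r = 9 ∨ r = 11) : orderOf (x r (1 : F)) = 2 := by
  refine orderOf_eq_prime (p := 2) ?_ fun h => ?_
  · rw [pow_two, x_add, show (1 : F) + 1 = 0 by linear_combination two' (F := F), x_zero]
  · exact one_ne_zero (S2.xG_eq_one (r := r) (by rw [half_eq.2]; omega) h)

end Cfsg.Lib.GTwoInv
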