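import Cfsg.Agent.Chev.ChkG2
import Cfsg.Agent.Chev.CChkG2
import Cfsg.Agent.Chev.Bruhat
import Cfsg.Agent.Chev.WeaklyClosed

/-! The positive unipotent subgroup of `G₂` in characteristic two, in coordinates. -/

set_option autoImplicit false
set_option linter.unusedSectionVars false

open Cfsg.Lie

namespace Cfsg.Lib.GTwoInv

open Cfsg.Lib.Chev

theorem S2 : Struct chevG2 G2.cert := ⟨G2.ok, G2.okChain_, G2.okBase_all, okOrder_G2⟩

theorem half_eq : chevG2.nroots / 2 = 6 ∧ chevG2.nroots = 12 := by decide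

variable {F : Type*} [Field F]

/-- A root element. -/
noncomputable def x (r : ℕ) (t : F) : GL chevG2.Idx F := S2.ok.xG r t

theorem x_add (r : ℕ) (s t : F) : x r s * x r t = x r (s + t) := S2.ok.xG_mul r s t

theorem x_zero (r : ℕ) : x r (0 : F) = 1 := S2.xG_zero r

theorem comm {r s : ℕ} (hr : r < 12) (hs : s < 12) (h1 : s ≠ r) (h2 : s ≠ chevG2.neg r) (t u : F) :
    x s u * x r t = x r t * x s u * S2.ok.wG (chevG2.commWord F r s t u) :=
  S2.ok.commRel S2.chain S2.base (half_eq.2.symm ▸ hr) (half_eq.2.symm ▸ hs) h1 h2 t u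

theorem commutes {r s : ℕ} (hr : r < 12) (hs : s < 12) (h1 : s ≠ r) (h2 : s ≠ chevG2.neg r)
    (h : chevG2.commTerms r s = []) (t u : F) : x s u * x r t = x r t * x s u := by
  rw [comm hr hs h1 h2, ChevalleyDatum.commWord, h]
  simp [Ok.wG]

variable [CharP F 2]

theorem terms67 : chevG2.commTerms 6 7 =
    [(8, (1, (1, 1))), (9, (1, (1, 2))), (10, (-1, (1, 3))), (11, (-2, (2, 3)))] := by decide +kernel
theorem terms610 : chevG2.commTerms 6 10 = [(11, (1, (1, 1)))] := by decide +kernel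
theorem terms78 : chevG2.commTerms 7 8 = [(9, (-2, (1, 1))), (10, (-3, (2, 1))), (11, (3, (1, 2)))] := by
  decide +kernel
theorem terms79 : chevG2.commTerms 7 9 = [(10, (3, (1, 1)))] := by decide +kernel
theorem terms89 : chevG2.commTerms 8 9 = [(11, (3, (1, 1)))] := by decide +kernel

theorem two' : (2 : F) = 0 := CharP.cast_eq_zero F 2
theorem three' : (3 : F) = 1 := by linear_combination (two' (F := F))
theorem neg' (a : F) : -a = a := by linear_combination (-a) * (two' (F := F))

theorem c67 (t u : F) : x 7 u * x 6 t =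
    x 6 t * x 7 u * x 8 (t * u) * x 9 (t * u ^ 2) * x 10 (t * u ^ 3) := by
  rw [comm (by norm_num) (by norm_num) (by norm_num) (by decide +kernel), ChevalleyDatum.commWord, terms67]
  simp only [Ok.wG, List.map_cons, List.map_nil, List.prod_cons, List.prod_nil, mul_one, pow_one,
    Int.cast_one, Int.cast_neg, Int.cast_ofNat, neg', two', zero_mul, one_mul]
  rw [show S2.ok.xG 11 (0 : F) = 1 from x_zero 11, mul_one]
  simp only [x, mul_assoc]

theorem c610 (t u : F) : x 10 u * x 6 t = x 6 t * x 10 u * x 11 (t * u) := by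
  rw [comm (by norm_num) (by norm_num) (by norm_num) (by decide +kernel), ChevalleyDatum.commWord, terms610]
  simp [Ok.wG, neg', x]

theorem c78 (t u : F) : x 8 u * x 7 t = x 7 t * x 8 u * x 10 (t ^ 2 * u) * x 11 (t * u ^ 2) := by
  rw [comm (by norm_num) (by norm_num) (by norm_num) (by decide +kernel), ChevalleyDatum.commWord, terms78]
  simp only [Ok.wG, List.map_cons, List.map_nil, List.prod_cons, List.prod_nil, mul_one, pow_one,
    Int.cast_neg, Int.cast_ofNat, neg', two', three', zero_mul, one_mul]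
  rw [show S2.ok.xG 9 (0 : F) = 1 from x_zero 9, one_mul]
  simp only [x, mul_assoc]

theorem c79 (t u : F) : x 9 u * x 7 t = x 7 t * x 9 u * x 10 (t * u) := by
  rw [comm (by norm_num) (by norm_num) (by norm_num) (by decide +kernel), ChevalleyDatum.commWord, terms79]
  simp [Ok.wG, neg', three', x]

theorem c89 (t u : F) : x 9 u * x 8 t = x 8 t * x 9 u * x 11 (t * u) := by
  rw [comm (by norm_num) (by norm_num) (by norm_num) (by decide +kernel), ChevalleyDatum.commWord, terms89]
  simp [Ok.wG, neg', three', x]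

/-- An element of `U` by its coordinates. -/
noncomputable def mk (A B C D E G : F) : GL chevG2.Idx F := x 6 A * x 7 B * x 8 C * x 9 D * x 10 E * x 11 G

theorem mk_mul_x6 (A B C D E G a : F) :
    mk A B C D E G * x 6 a =
      mk (A + a) B (C + a * B) (D + a * B ^ 2) (E + a * B ^ 3) (G + a * E + C * a * B ^ 2) := by
  have k11 : x 11 G * x 6 a = x 6 a * x 11 G :=
    commutes (by norm_num) (by norm_num) (by norm_num) (by decide +kernel) (by decide +kernel) _ _
  have k9 : x 9 D * x 6 a = x 6 a * x 9 D :=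
    commutes (by norm_num) (by norm_num) (by norm_num) (by decide +kernel) (by decide +kernel) _ _
  have k8 : x 8 C * x 6 a = x 6 a * x 8 C :=
    commutes (by norm_num) (by norm_num) (by norm_num) (by decide +kernel) (by decide +kernel) _ _
  have p1 : x 10 (a * B ^ 3) * x 8 C = x 8 C * x 10 (a * B ^ 3) :=
    commutes (by norm_num) (by norm_num) (by norm_num) (by decide +kernel) (by decide +kernel) _ _
  have p2 : x 10 (a * B ^ 3) * x 9 D = x 9 D * x 10 (a * B ^ 3) :=
    commutes (by norm_num) (by norm_num) (by norm_num) (by decide +kernel) (by decide +kernel) _ _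
  have p3 : ∀ u v : F, x 11 u * x 10 v = x 10 v * x 11 u := fun u v =>
    commutes (by norm_num) (by norm_num) (by norm_num) (by decide +kernel) (by decide +kernel) _ _
  have p4 : ∀ u v : F, x 11 u * x 9 v = x 9 v * x 11 u := fun u v =>
    commutes (by norm_num) (by norm_num) (by norm_num) (by decide +kernel) (by decide +kernel) _ _
  calc mk A B C D E G * x 6 a
      = x 6 A * x 7 B * x 8 C * x 9 D * x 10 E * (x 11 G * x 6 a) := by simp only [mk, mul_assoc]
    _ = x 6 A * x 7 B * x 8 C * x 9 D * (x 10 E * x 6 a) * x 11 G := by rw [k11]; simp only [mul_assoc]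
    _ = x 6 A * x 7 B * x 8 C * (x 9 D * x 6 a) * x 10 E * (x 11 (a * E) * x 11 G) := by
        rw [c610]; simp only [mul_assoc]
    _ = x 6 A * x 7 B * (x 8 C * x 6 a) * x 9 D * x 10 E * x 11 (a * E + G) := by
        rw [k9, x_add]; simp only [mul_assoc]
    _ = x 6 A * (x 7 B * x 6 a) * x 8 C * x 9 D * x 10 E * x 11 (a * E + G) := by
        rw [k8]; simp only [mul_assoc]
    _ = (x 6 A * x 6 a) * x 7 B * x 8 (a * B) * x 9 (a * B ^ 2) * (x 10 (a * B ^ 3) * x 8 C) * x 9 D *
          x 10 E * x 11 (a * E + G) := by rw [c67]; simp only [mul_assoc]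
    _ = x 6 (A + a) * x 7 B * x 8 (a * B) * (x 9 (a * B ^ 2) * x 8 C) * (x 10 (a * B ^ 3) * x 9 D) *
          x 10 E * x 11 (a * E + G) := by rw [x_add, p1]; simp only [mul_assoc]
    _ = x 6 (A + a) * x 7 B * (x 8 (a * B) * x 8 C) * x 9 (a * B ^ 2) * (x 11 (C * (a * B ^ 2)) * x 9 D) *
          (x 10 (a * B ^ 3) * x 10 E) * x 11 (a * E + G) := by rw [c89, p2]; simp only [mul_assoc]
    _ = x 6 (A + a) * x 7 B * x 8 (a * B + C) * (x 9 (a * B ^ 2) * x 9 D) *
          (x 11 (C * (a * B ^ 2)) * x 10 (a * B ^ 3 + E)) * x 11 (a * E + G) := by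
        rw [p4, x_add, x_add]; simp only [mul_assoc]
    _ = x 6 (A + a) * x 7 B * x 8 (a * B + C) * x 9 (a * B ^ 2 + D) * x 10 (a * B ^ 3 + E) *
          (x 11 (C * (a * B ^ 2)) * x 11 (a * E + G)) := by rw [p3, x_add]; simp only [mul_assoc]
    _ = _ := by rw [x_add, mk]; ring_nf

theorem mk_mul_x7 (A B C D E G b : F) :
    mk A B C D E G * x 7 b = mk A (B + b) C D (E + b ^ 2 * C + b * D) (G + b * C ^ 2) := by
  have k11 : x 11 G * x 7 b = x 7 b * x 11 G :=
    commutes (by norm_num) (by norm_num) (by norm_num) (by decide +kernel) (by decide +kernel) _ _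
  have k10 : x 10 E * x 7 b = x 7 b * x 10 E :=
    commutes (by norm_num) (by norm_num) (by norm_num) (by decide +kernel) (by decide +kernel) _ _
  have p2 : ∀ u v : F, x 10 u * x 9 v = x 9 v * x 10 u := fun u v =>
    commutes (by norm_num) (by norm_num) (by norm_num) (by decide +kernel) (by decide +kernel) _ _
  have p3 : ∀ u v : F, x 11 u * x 10 v = x 10 v * x 11 u := fun u v =>
    commutes (by norm_num) (by norm_num) (by norm_num) (by decide +kernel) (by decide +kernel) _ _
  have p4 : ∀ u v : F, x 11 u * x 9 v = x 9 v * x 11 u := fun u v =>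
    commutes (by norm_num) (by norm_num) (by norm_num) (by decide +kernel) (by decide +kernel) _ _
  calc mk A B C D E G * x 7 b
      = x 6 A * x 7 B * x 8 C * x 9 D * x 10 E * (x 11 G * x 7 b) := by simp only [mk, mul_assoc]
    _ = x 6 A * x 7 B * x 8 C * x 9 D * (x 10 E * x 7 b) * x 11 G := by rw [k11]; simp only [mul_assoc]
    _ = x 6 A * x 7 B * x 8 C * (x 9 D * x 7 b) * x 10 E * x 11 G := by rw [k10]; simp only [mul_assoc]
    _ = x 6 A * x 7 B * (x 8 C * x 7 b) * x 9 D * (x 10 (b * D) * x 10 E) * x 11 G := by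
        rw [c79]; simp only [mul_assoc]
    _ = x 6 A * (x 7 B * x 7 b) * x 8 C * x 10 (b ^ 2 * C) * (x 11 (b * C ^ 2) * x 9 D) *
          x 10 (b * D + E) * x 11 G := by rw [c78, x_add]; simp only [mul_assoc]
    _ = x 6 A * x 7 (B + b) * x 8 C * (x 10 (b ^ 2 * C) * x 9 D) * (x 11 (b * C ^ 2) *
          x 10 (b * D + E)) * x 11 G := by rw [p4, x_add]; simp only [mul_assoc]
    _ = x 6 A * x 7 (B + b) * x 8 C * x 9 D * (x 10 (b ^ 2 * C) * x 10 (b * D + E)) *
          (x 11 (b * C ^ 2) * x 11 G) := by rw [p2, p3]; simp only [mul_assoc]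
    _ = _ := by rw [x_add, x_add, mk]; ring_nf

theorem mk_mul_x8 (A B C D E G c : F) :
    mk A B C D E G * x 8 c = mk A B (C + c) D E (G + c * D) := by
  have k11 : x 11 G * x 8 c = x 8 c * x 11 G :=
    commutes (by norm_num) (by norm_num) (by norm_num) (by decide +kernel) (by decide +kernel) _ _
  have k10 : x 10 E * x 8 c = x 8 c * x 10 E :=
    commutes (by norm_num) (by norm_num) (by norm_num) (by decide +kernel) (by decide +kernel) _ _
  have p3 : x 11 (c * D) * x 10 E = x 10 E * x 11 (c * D) :=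
    commutes (by norm_num) (by norm_num) (by norm_num) (by decide +kernel) (by decide +kernel) _ _
  calc mk A B C D E G * x 8 c
      = x 6 A * x 7 B * x 8 C * x 9 D * x 10 E * (x 11 G * x 8 c) := by simp only [mk, mul_assoc]
    _ = x 6 A * x 7 B * x 8 C * x 9 D * (x 10 E * x 8 c) * x 11 G := by rw [k11]; simp only [mul_assoc]
    _ = x 6 A * x 7 B * x 8 C * (x 9 D * x 8 c) * x 10 E * x 11 G := by rw [k10]; simp only [mul_assoc]
    _ = x 6 A * x 7 B * (x 8 C * x 8 c) * x 9 D * (x 11 (c * D) * x 10 E) * x 11 G := by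
        rw [c89]; simp only [mul_assoc]
    _ = x 6 A * x 7 B * x 8 (C + c) * x 9 D * x 10 E * (x 11 (c * D) * x 11 G) := by
        rw [p3, x_add]; simp only [mul_assoc]
    _ = _ := by rw [x_add, mk, add_comm (c * D)]

theorem mk_mul_x9 (A B C D E G d : F) : mk A B C D E G * x 9 d = mk A B C (D + d) E G := by
  have k11 : x 11 G * x 9 d = x 9 d * x 11 G :=
    commutes (by norm_num) (by norm_num) (by norm_num) (by decide +kernel) (by decide +kernel) _ _
  have k10 : x 10 E * x 9 d = x 9 d * x 10 E :=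
    commutes (by norm_num) (by norm_num) (by norm_num) (by decide +kernel) (by decide +kernel) _ _
  calc mk A B C D E G * x 9 d
      = x 6 A * x 7 B * x 8 C * x 9 D * x 10 E * (x 11 G * x 9 d) := by simp only [mk, mul_assoc]
    _ = x 6 A * x 7 B * x 8 C * x 9 D * (x 10 E * x 9 d) * x 11 G := by rw [k11]; simp only [mul_assoc]
    _ = x 6 A * x 7 B * x 8 C * (x 9 D * x 9 d) * x 10 E * x 11 G := by rw [k10]; simp only [mul_assoc]
    _ = _ := by rw [x_add, mk]

theorem mk_mul_x10 (A B C D E G e : F) : mk A B C D E G * x 10 e = mk A B C D (E + e) G := by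
  have k11 : x 11 G * x 10 e = x 10 e * x 11 G :=
    commutes (by norm_num) (by norm_num) (by norm_num) (by decide +kernel) (by decide +kernel) _ _
  calc mk A B C D E G * x 10 e
      = x 6 A * x 7 B * x 8 C * x 9 D * x 10 E * (x 11 G * x 10 e) := by simp only [mk, mul_assoc]
    _ = x 6 A * x 7 B * x 8 C * x 9 D * (x 10 E * x 10 e) * x 11 G := by rw [k11]; simp only [mul_assoc]
    _ = _ := by rw [x_add, mk]

theorem mk_mul_x11 (A B C D E G f : F) : mk A B C D E G * x 11 f = mk A B C D E (G + f) := by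
  simp only [mk, mul_assoc, x_add]

theorem mk_mul (A B C D E G a b c d e f : F) :
    mk A B C D E G * mk a b c d e f =
      mk (A + a) (B + b) (C + a * B + c) (D + a * B ^ 2 + d)
        (E + a * B ^ 3 + b ^ 2 * (C + a * B) + b * (D + a * B ^ 2) + e)
        (G + a * E + C * a * B ^ 2 + b * (C + a * B) ^ 2 + c * (D + a * B ^ 2) + f) := by
  rw [mk.eq_def a b c d e f, ← mul_assoc, ← mul_assoc, ← mul_assoc, ← mul_assoc, ← mul_assoc,
    mk_mul_x6, mk_mul_x7, mk_mul_x8, mk_mul_x9, mk_mul_x10, mk_mul_x11]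

omit [CharP F 2] in
theorem pw_eq_mk (t : ℕ → F) : S2.pw 6 t = mk (t 6) (t 7) (t 8) (t 9) (t 10) (t 11) := by
  obtain ⟨-, h12⟩ := half_eq
  simp [mk, x, S2.pw_succ (show 6 < chevG2.nroots by omega), S2.pw_succ (show 7 < chevG2.nroots by omega),
    S2.pw_succ (show 8 < chevG2.nroots by omega), S2.pw_succ (show 9 < chevG2.nroots by omega),
    S2.pw_succ (show 10 < chevG2.nroots by omega), S2.pw_succ (show 11 < chevG2.nroots by omega),
    S2.pw_top (show chevG2.nroots ≤ 12 by omega), mul_assoc]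

omit [CharP F 2] in
theorem exists_mk {g : GL chevG2.Idx F} (hg : g ∈ chevG2.posUnipotent F) :
    ∃ A B C D E G : F, g = mk A B C D E G := by
  obtain ⟨h6, h12⟩ := half_eq
  rw [S2.posUnipotent_eq] at hg
  obtain ⟨t, ht⟩ := S2.exists_pw (chevG2.nroots - chevG2.nroots / 2) (chevG2.nroots / 2) (by omega) le_rfl g hg
  refine ⟨t 6, t 7, t 8, t 9, t 10, t 11, ?_⟩
  rw [← pw_eq_mk, ← h6, ← ht]

omit [CharP F 2] in
theorem mk_mem (A B C D E G : F) : mk A B C D E G ∈ chevG2.posUnipotent F := by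
  obtain ⟨h6, h12⟩ := half_eq
  have h : ∀ r, 6 ≤ r → r < 12 → ∀ t : F, x r t ∈ chevG2.posUnipotent F := fun r a b t =>
    S2.xG_mem_U (by omega) (by omega) t
  exact mul_mem (mul_mem (mul_mem (mul_mem (mul_mem (h 6 le_rfl (by omega) A) (h 7 (by omega) (by omega) B))
    (h 8 (by omega) (by omega) C)) (h 9 (by omega) (by omega) D)) (h 10 (by omega) (by omega) E))
    (h 11 (by omega) (by omega) G)

omit [CharP F 2] in
theorem mk_inj {A B C D E G a b c d e f : F} (h : mk A B C D E G = mk a b c d e f) :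
    A = a ∧ B = b ∧ C = c ∧ D = d ∧ E = e ∧ G = f := by
  obtain ⟨h6, h12⟩ := half_eq
  let t : ℕ → F := fun r => [A, B, C, D, E, G].getD (r - 6) 0
  let t' : ℕ → F := fun r => [a, b, c, d, e, f].getD (r - 6) 0
  have he : S2.pw 6 t = S2.pw 6 t' := by rw [pw_eq_mk, pw_eq_mk]; exact h
  have := S2.pw_inj (chevG2.nroots - 6) 6 (by omega) (by omega) t t' he
  exact ⟨this 6 (by omega) (by omega), this 7 (by omega) (by omega), this 8 (by omega) (by omega),
    this 9 (by omega) (by omega), this 10 (by omega) (by omega), this 11 (by omega) (by omega)⟩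

omit [CharP F 2] in
theorem mk_zero : mk (0 : F) 0 0 0 0 0 = 1 := by simp [mk, x_zero]

omit [CharP F 2] in
theorem x_eq_mk (t : F) :
    x 6 t = mk t 0 0 0 0 0 ∧ x 7 t = mk 0 t 0 0 0 0 ∧ x 8 t = mk 0 0 t 0 0 0 ∧ x 9 t = mk 0 0 0 t 0 0 ∧
      x 10 t = mk 0 0 0 0 t 0 ∧ x 11 t = mk 0 0 0 0 0 t := by
  simp [mk, x_zero]

end Cfsg.Lib.GTwoInv
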